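import Groth.Agent.Lib.AffRelDual22.Main
import Groth.Agent.Lib.DualRing.ShriekGorFibres
import Groth.Agent.Lib.Different2.Invertible

/-! # Invertibility of the top cohomology and Gorenstein fibres -/

set_option autoImplicit false
set_option linter.style.haveILetI false
set_option maxHeartbeats 1000000
universe u

open CategoryTheory CategoryTheory.Limits HomologicalComplex GrothLib.DualCx22
open scoped TensorProduct

attribute [local instance] HasDerivedCategory.standard
attribute [local instance] GrothLib.DualRing.Shriek.pfl_of_flat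

noncomputable section

namespace GrothLib.AffRelDual22

open GrothLib.DualRing GrothLib.DualRing.Shriek

/-- A finite module free of rank one at every maximal ideal is invertible. -/
theorem invertible_of_localized {A : Type u} [CommRing A] (M : Type u) [AddCommGroup M] [Module A M] [Module.Finite A M]
    (h : ∀ q : Ideal A, ∀ [q.IsMaximal], Nonempty (Localization.AtPrime q ⊗[A] M ≃ₗ[Localization.AtPrime q] Localization.AtPrime q)) :
    Module.Invertible A M := by
  classical
  refine GrothLib.Different2.invertible_of_locally_cyclic (fun b hb => eq_zero_of_localization b fun q hq => ?_)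
    fun q hq => ?_
  · obtain ⟨e⟩ := h q
    let S := Localization.AtPrime q
    obtain ⟨z, hz⟩ := e.surjective 1
    have h0 : ∀ w : S ⊗[A] M, b • w = 0 := fun w => by
      induction w using TensorProduct.induction_on with
      | zero => exact smul_zero _
      | tmul s x => rw [← TensorProduct.tmul_smul, hb x, TensorProduct.tmul_zero]
      | add x y hx hy => rw [smul_add, hx, hy, add_zero]
    have h1 := congrArg e (h0 z)
    rw [map_zero, ← IsScalarTower.algebraMap_smul S b z, map_smul, hz, smul_eq_mul, mul_one] at h1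
    exact h1
  · obtain ⟨e⟩ := h q
    let S := Localization.AtPrime q
    let f := TensorProduct.mk A S M 1
    obtain ⟨⟨m, s⟩, hms⟩ := IsLocalizedModule.surj q.primeCompl f (e.symm 1)
    have key : ∀ x : M, ∃ (t : A), t ∉ q ∧ ∃ c : A, c • m = t • x := fun x => by
      obtain ⟨b, s', hb⟩ := IsLocalization.exists_mk'_eq q.primeCompl (e (f x))
      have h1 : (s' : A) • f x = b • e.symm 1 := by
        apply e.injective
        rw [← IsScalarTower.algebraMap_smul S (s' : A) (f x), ← IsScalarTower.algebraMap_smul S b (e.symm 1),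
          map_smul, map_smul, e.apply_symm_apply, ← hb, smul_eq_mul, smul_eq_mul, mul_one,
          IsLocalization.mk'_spec']
      have hms' : (s : A) • e.symm 1 = f m := hms
      have h2 : f ((s : A) • (s' : A) • x) = f (b • m) := by
        rw [map_smul, map_smul, map_smul, h1, smul_comm, hms']
      obtain ⟨c, hc⟩ := (IsLocalizedModule.eq_iff_exists q.primeCompl f).1 h2
      refine ⟨c * (s * s'), q.primeCompl.mul_mem c.2 (q.primeCompl.mul_mem s.2 s'.2), (c : A) * b, ?_⟩
      rw [mul_smul, mul_smul, mul_smul]
      exact hc.symm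
    choose t ht c hc using key
    obtain ⟨G, hG⟩ := (Module.Finite.fg_top : (⊤ : Submodule A M).FG)
    refine ⟨m, ∏ g ∈ G, t g, fun hmem => ?_, fun x => ?_⟩
    · obtain ⟨g, -, hg⟩ := (hq.isPrime.prod_mem_iff).1 hmem
      exact ht g hg
    · have hx : x ∈ Submodule.span A (G : Set M) := hG ▸ Submodule.mem_top
      induction hx using Submodule.span_induction with
      | mem g hg =>
        obtain ⟨d, hd⟩ := Finset.dvd_prod_of_mem t hg
        exact ⟨d * c g, by rw [mul_smul, hc g, smul_smul, mul_comm d, ← hd]⟩
      | zero => exact ⟨0, by rw [zero_smul, smul_zero]⟩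
      | add a b _ _ ha hb =>
        obtain ⟨ca, hca⟩ := ha
        obtain ⟨cb, hcb⟩ := hb
        exact ⟨ca + cb, by rw [add_smul, hca, hcb, smul_add]⟩
      | smul r a _ ha =>
        obtain ⟨ca, hca⟩ := ha
        exact ⟨r * ca, by rw [mul_smul, hca, smul_comm]⟩

variable {R A : Type u} [CommRing R] [CommRing A] [IsNoetherianRing R] [IsNoetherianRing A] [Algebra R A]
  [Module.Flat R A] [Algebra.FinitePresentation R A] {n : ℕ} (ψ : MvPolynomial (Fin n) R →ₐ[R] A)
  (hψ : Function.Surjective ψ)

include hψ in
/-- **In one degree: invertible iff the fibres are Gorenstein.** -/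
theorem invertible_iff_gorenstein (d : ℕ)
    (h : ∀ i : ℤ, i ≠ -(d : ℤ) → Subsingleton (Dual.HD A (GP ψ (Dual.inD R R)) i)) :
    Module.Invertible A (Dual.HD A (GP ψ (Dual.inD R R)) (-(d : ℤ))) ↔
      ∀ p : PrimeSpectrum R, LocCoh.IsGorensteinRing (p.asIdeal.ResidueField ⊗[R] A) := by
  obtain ⟨E, b, hb, hf, ⟨e⟩⟩ := (isRelPerfect_GP ψ hψ).1
  have hE : GrothLib.KF.IsKFlat E := GrothLib.KF.isKFlat_of_bounded_above E b hb
    fun i => haveI := (hf i).2; inferInstanceAs (Module.Flat A (E.X i))
  let eH : ∀ i, Dual.HD A (GP ψ (Dual.inD R R)) i ≃ₗ[A] Dual.HD A (DRing.toD E) i := fun i =>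
    ((DerivedCategory.homologyFunctor (ModuleCat.{u} A) i).mapIso e.symm).toLinearEquiv
  have hfin : ∀ i, Module.Finite A (Dual.HD A (DRing.toD E) i) := fun i =>
    haveI := (props_GP ψ hψ).2.1 i; Module.Finite.equiv (eH i)
  have hzero : ∀ i : ℤ, i ≠ -(d : ℤ) → Subsingleton (Dual.HD A (DRing.toD E) i) := fun i hi =>
    haveI := h i hi; (eH i).symm.toEquiv.subsingleton
  haveI : ∀ f : A, Module.Flat A (Localization.Away f) := fun f => IsLocalization.flat _ (Submonoid.powers f)
  constructor
  · intro hinv p
    haveI : Module.Invertible A (Dual.HD A (DRing.toD E) (-(d : ℤ))) := Module.Invertible.congr (eH _)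
    refine isGorensteinRing_fibre ψ hψ hE e (fun q => ?_) p
    let S := Localization.AtPrime q.asIdeal
    haveI : Module.Flat A S := IsLocalization.flat S q.asIdeal.primeCompl
    obtain ⟨e1⟩ := (Module.Invertible.free_iff_linearEquiv (R := S)
      (M := S ⊗[A] Dual.HD A (DRing.toD E) (-(d : ℤ)))).1 inferInstance
    obtain ⟨eK⟩ := nonempty_iso_shift_inD (K := (bcD (A := A) S).obj (DRing.toD E)) (d : ℤ)
      (fun i hi => by
        obtain ⟨e2⟩ := nonempty_HD_bcD_equiv (A := A) S (DRing.toD E) i
        haveI := hzero i (by omega)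
        exact e2.toEquiv.subsingleton)
      ((nonempty_HD_bcD_equiv (A := A) S (DRing.toD E) (-(d : ℤ))).some.trans e1)
    obtain ⟨f, hfq, ⟨ef⟩⟩ := exists_away_iso_shift (DRing.toD E) hfin {-(d : ℤ)}
      (fun i hi => hzero i (by simpa using hi)) q.asIdeal d eK
    exact ⟨f, hfq, d, ⟨((bcMod (A := A) (Localization.Away f)).mapDerivedCategoryFactors.app E).symm ≪≫ ef⟩⟩
  · intro hG
    haveI := hfin (-(d : ℤ))
    haveI : Module.Invertible A (Dual.HD A (DRing.toD E) (-(d : ℤ))) := by
      refine invertible_of_localized _ fun q _ => ?_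
      obtain ⟨p, Q, hQ, -⟩ := exists_fibre_prime (R := R) (⟨q, inferInstance⟩ : PrimeSpectrum A)
      obtain ⟨f, hfq, m, ⟨ef⟩⟩ := exists_away_invertible ψ hψ e hb hf ⟨q, inferInstance⟩ p Q.asIdeal hQ (hG p)
      let L := Localization.Away f
      let S := Localization.AtPrime q
      have hu : IsUnit (algebraMap A S f) := IsLocalization.map_units S (⟨f, hfq⟩ : q.primeCompl)
      haveI : Nontrivial L := (IsLocalization.Away.lift (S := L) f hu).domain_nontrivial
      let ef' : (bcD (A := A) L).obj (DRing.toD E) ≅ (Dual.inD L L)⟦m⟧ :=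
        (bcMod (A := A) L).mapDerivedCategoryFactors.app E ≪≫ ef
      obtain ⟨e2⟩ := nonempty_HD_shift_inD (C := L) m
      obtain ⟨e3⟩ := nonempty_HD_bcD_equiv (A := A) L (DRing.toD E) (-m)
      have e4 : L ⊗[A] Dual.HD A (DRing.toD E) (-m) ≃ₗ[L] L :=
        e3.symm.trans (((DerivedCategory.homologyFunctor (ModuleCat.{u} L) (-m)).mapIso ef').toLinearEquiv.trans e2)
      obtain rfl : m = (d : ℤ) := by
        by_contra hne
        haveI := hzero (-m) (by omega)
        exact not_subsingleton L e4.symm.toEquiv.subsingleton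
      letI : Algebra L S := (IsLocalization.Away.lift f hu).toAlgebra
      haveI : IsScalarTower A L S := IsScalarTower.of_algebraMap_eq fun a => (IsLocalization.Away.lift_eq f hu a).symm
      exact ⟨(TensorProduct.AlgebraTensorModule.cancelBaseChange A L S S _).symm.trans
        ((e4.baseChange L S).trans (TensorProduct.AlgebraTensorModule.rid L S S))⟩
    exact Module.Invertible.congr (eH _).symm

end GrothLib.AffRelDual22
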