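import Groth.Agent.Lib.ShriekBridge22.FibreDegree
import Groth.Agent.Lib.FibreDimRing.Basic
import Groth.Agent.Lib.DCxRing.PerfectModule
import Groth.Agent.Lib.CMPoly.Basic
import Mathlib.Algebra.Homology.DerivedCategory.Ext.Linear

/-! # The relative dualizing complex of a closed subscheme of affine space as `Ext` -/

set_option autoImplicit false
set_option linter.style.haveILetI false
set_option maxHeartbeats 1000000
universe u

open CategoryTheory CategoryTheory.Limits HomologicalComplex GrothLib.DualCx22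
open scoped TensorProduct

attribute [local instance] HasDerivedCategory.standard
attribute [local instance] GrothLib.DualRing.Shriek.pfl_of_flat

noncomputable section

namespace GrothLib.AffRelDual22

open GrothLib.DualRing GrothLib.DualRing.Shriek

section Bridge

variable {R B : Type u} [CommRing R] [CommRing B] [Algebra R B] {n : ℕ}
  [Algebra (MvPolynomial (Fin n) R) B] (ψ : MvPolynomial (Fin n) R →ₐ[R] B)
  (hψ : ∀ x, ψ x = algebraMap (MvPolynomial (Fin n) R) B x)

include hψ in
/-- The cohomology of the relative dualizing complex is the corresponding `Ext`. -/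
theorem exists_HD_GP_ext (i : ℤ) (j : ℕ) (hij : i + n = j) :
    ∃ e : Dual.HD B (GP ψ (Dual.inD R R)) i ≃+
        Abelian.Ext (ModuleCat.of (MvPolynomial (Fin n) R) B)
          (ModuleCat.of (MvPolynomial (Fin n) R) (MvPolynomial (Fin n) R)) j,
      ∀ (s : MvPolynomial (Fin n) R) (x : Dual.HD B (GP ψ (Dual.inD R R)) i), e (ψ s • x) = s • e x := by
  obtain rfl : (inferInstance : Algebra (MvPolynomial (Fin n) R) B) = ψ.toRingHom.toAlgebra :=
    Algebra.algebra_ext _ _ fun x => (hψ x).symm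
  obtain ⟨e, he⟩ := exists_HD_GP_semilinear ψ i
  letI : Algebra (MvPolynomial (Fin n) R) B := ψ.toRingHom.toAlgebra
  generalize i + (n : ℤ) = m at hij e he
  subst hij
  let h := (Abelian.Ext.homLinearEquiv (R := MvPolynomial (Fin n) R)
    (X := ModuleCat.of (MvPolynomial (Fin n) R) B)
    (Y := ModuleCat.of (MvPolynomial (Fin n) R) (MvPolynomial (Fin n) R)) (n := j)).symm
  exact ⟨e.trans h.toAddEquiv, fun s x => (congrArg h (he s x)).trans (h.map_smul s (e x))⟩

include hψ in
theorem subsingleton_HD_iff (i : ℤ) (j : ℕ) (hij : i + n = j) :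
    Subsingleton (Dual.HD B (GP ψ (Dual.inD R R)) i) ↔
      Subsingleton (Abelian.Ext (ModuleCat.of (MvPolynomial (Fin n) R) B)
          (ModuleCat.of (MvPolynomial (Fin n) R) (MvPolynomial (Fin n) R)) j) := by
  obtain ⟨e, -⟩ := exists_HD_GP_ext ψ hψ i j hij
  exact e.toEquiv.subsingleton_congr

/-- Nothing below minus the number of variables. -/
theorem subsingleton_HD_low (i : ℤ) (hi : i + n < 0) : Subsingleton (Dual.HD B (GP ψ (Dual.inD R R)) i) := by
  letI : Algebra (MvPolynomial (Fin n) R) B := ψ.toRingHom.toAlgebra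
  obtain ⟨e, -⟩ := exists_HD_GP_semilinear ψ i
  let P := MvPolynomial (Fin n) R
  haveI : Subsingleton (EH (Dual.inD P P) (Dual.inD P B) (i + n)) := by
    refine ⟨fun f g => ?_⟩
    have h1 : DerivedCategory.TStructure.t.IsLE (Dual.inD P B) 0 := inferInstanceAs ((Dual.inD P B).IsLE 0)
    have h2 : DerivedCategory.TStructure.t.IsGE ((Dual.inD P P)⟦i + (n : ℤ)⟧) (-(i + n)) := by
      haveI : DerivedCategory.TStructure.t.IsGE (Dual.inD P P) 0 := inferInstanceAs ((Dual.inD P P).IsGE 0)
      exact DerivedCategory.TStructure.t.isGE_shift _ 0 (i + n) (-(i + n)) (by omega)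
    have hz := fun φ : Dual.inD P B ⟶ (Dual.inD P P)⟦i + (n : ℤ)⟧ =>
      DerivedCategory.TStructure.t.zero_of_isLE_of_isGE φ 0 (-(i + n)) (by omega) h1 h2
    exact (hz f).trans (hz g).symm
  exact e.toEquiv.subsingleton

include hψ in
/-- Vanishing of all the `Ext` but one. -/
theorem vanishing_iff {d : ℕ} (hd : d ≤ n) :
    (∀ j : ℕ, j ≠ n - d → Subsingleton (Abelian.Ext (ModuleCat.of (MvPolynomial (Fin n) R) B)
          (ModuleCat.of (MvPolynomial (Fin n) R) (MvPolynomial (Fin n) R)) j)) ↔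
      ∀ i : ℤ, i ≠ -(d : ℤ) → Subsingleton (Dual.HD B (GP ψ (Dual.inD R R)) i) := by
  refine ⟨fun h i hi => ?_, fun h j hj => ?_⟩
  · by_cases h0 : i + n < 0
    · exact subsingleton_HD_low ψ i h0
    · exact (subsingleton_HD_iff ψ hψ i (i + n).toNat (by omega)).2 (h _ (by omega))
  · exact (subsingleton_HD_iff ψ hψ ((j : ℤ) - n) j (by omega)).1 (h _ (by omega))

include hψ in
/-- Flatness over the base. -/
theorem flat_iff {d : ℕ} (hd : d ≤ n) :
    Module.Flat R (RestrictScalars R (MvPolynomial (Fin n) R)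
        (Abelian.Ext (ModuleCat.of (MvPolynomial (Fin n) R) B)
          (ModuleCat.of (MvPolynomial (Fin n) R) (MvPolynomial (Fin n) R)) (n - d))) ↔
      Module.Flat R (Dual.HD R ((DRing.restrictD (algebraMap R B)).obj (GP ψ (Dual.inD R R))) (-(d : ℤ))) := by
  obtain ⟨e, he⟩ := exists_HD_GP_ext ψ hψ (-(d : ℤ)) (n - d) (by omega)
  let e1 := ((DerTrunc.homologyMapIso (ModuleCat.restrictScalars.{u} (algebraMap R B)) (-(d : ℤ))).app
    (GP ψ (Dual.inD R R))).toLinearEquiv
  let f : Dual.HD R ((DRing.restrictD (algebraMap R B)).obj (GP ψ (Dual.inD R R))) (-(d : ℤ)) ≃ₗ[R]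
      RestrictScalars R (MvPolynomial (Fin n) R)
        (Abelian.Ext (ModuleCat.of (MvPolynomial (Fin n) R) B)
          (ModuleCat.of (MvPolynomial (Fin n) R) (MvPolynomial (Fin n) R)) (n - d)) :=
    { (e1.toAddEquiv.trans e).trans (RestrictScalars.addEquiv R (MvPolynomial (Fin n) R) _).symm with
      map_smul' := fun a x => by
        change (RestrictScalars.addEquiv R (MvPolynomial (Fin n) R) _).symm (e (e1 (a • x))) = _
        let y : Dual.HD B (GP ψ (Dual.inD R R)) (-(d : ℤ)) := e1 x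
        have h1 : (e1 (a • x) : Dual.HD B (GP ψ (Dual.inD R R)) (-(d : ℤ))) = algebraMap R B a • y :=
          e1.map_smul a x
        refine (congrArg (fun z => (RestrictScalars.addEquiv R (MvPolynomial (Fin n) R) _).symm (e z)) h1).trans ?_
        rw [← ψ.commutes, he]
        rfl }
  exact ⟨fun h => haveI := h; Module.Flat.of_linearEquiv f, fun h => haveI := h; Module.Flat.of_linearEquiv f.symm⟩

include hψ in
/-- The top `Ext` is an invertible module iff the cohomology is. -/
theorem invertible_iff (hs : Function.Surjective ψ) {d : ℕ} (hd : d ≤ n) :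
    (∃ (L : Type u) (_ : AddCommGroup L) (_ : Module B L), Module.Invertible B L ∧
        Nonempty (RestrictScalars (MvPolynomial (Fin n) R) B L ≃ₗ[MvPolynomial (Fin n) R]
          Abelian.Ext (ModuleCat.of (MvPolynomial (Fin n) R) B)
            (ModuleCat.of (MvPolynomial (Fin n) R) (MvPolynomial (Fin n) R)) (n - d))) ↔
      Module.Invertible B (Dual.HD B (GP ψ (Dual.inD R R)) (-(d : ℤ))) := by
  obtain ⟨e, he⟩ := exists_HD_GP_ext ψ hψ (-(d : ℤ)) (n - d) (by omega)
  constructor
  · rintro ⟨L, _, _, hL, ⟨f⟩⟩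
    haveI := hL
    let g : L ≃+ Dual.HD B (GP ψ (Dual.inD R R)) (-(d : ℤ)) :=
      ((RestrictScalars.addEquiv (MvPolynomial (Fin n) R) B L).symm.trans f.toAddEquiv).trans e.symm
    refine Module.Invertible.congr (R := B) (M := L)
      { g with map_smul' := fun b x => ?_ }
    obtain ⟨s, rfl⟩ := hs b
    change e.symm (f ((RestrictScalars.addEquiv _ B L).symm (ψ s • x))) = ψ s • g x
    apply e.injective
    rw [e.apply_symm_apply, hψ, RestrictScalars.addEquiv_symm_map_algebraMap_smul, f.map_smul, ← hψ, he]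
    exact congrArg (s • ·) (e.apply_symm_apply _).symm
  · intro h
    exact ⟨Dual.HD B (GP ψ (Dual.inD R R)) (-(d : ℤ)), inferInstance, inferInstance, h,
      ⟨{ (RestrictScalars.addEquiv (MvPolynomial (Fin n) R) B _).trans e with
        map_smul' := fun s x => by
          change e ((RestrictScalars.addEquiv (MvPolynomial (Fin n) R) B _) (s • x)) = s • _
          rw [RestrictScalars.addEquiv_map_smul, ← hψ, he]
          rfl }⟩⟩

end Bridge

/-- A complex of tor amplitude `[a, a]` has flat cohomology. -/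
theorem flat_HD_of_amp {R : Type u} [CommRing R] {a : ℤ} {K : Dual.D R} (h : DRing.HasTorAmplitudeIn R a a K) :
    Module.Flat R (Dual.HD R K a) := by
  obtain ⟨E, hv, hf, ⟨e⟩⟩ := h
  let S := E.sc a
  have hf0 : S.f = 0 := (hv _ (Or.inl (by simp))).eq_of_src _ _
  have hg0 : S.g = 0 := (hv _ (Or.inr (by simp))).eq_of_tgt _ _
  let θ : E.X a ≅ (DerivedCategory.homologyFunctor (ModuleCat.{u} R) a).obj K :=
    (ShortComplex.LeftHomologyData.ofZeros S hf0 hg0).homologyIso.symm ≪≫ (GrothLib.DR.homologyIso E a).symm ≪≫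
      (DerivedCategory.homologyFunctor (ModuleCat.{u} R) a).mapIso e
  haveI := hf a
  exact Module.Flat.of_linearEquiv θ.toLinearEquiv.symm

section Fibre

variable {R A : Type u} [CommRing R] [CommRing A] [IsNoetherianRing R] [IsNoetherianRing A] [Algebra R A]
  [Module.Flat R A] [Algebra.FinitePresentation R A] {n : ℕ} (ψ : MvPolynomial (Fin n) R →ₐ[R] A)
  (hψ : Function.Surjective ψ)

omit [IsNoetherianRing R] [IsNoetherianRing A] [Module.Flat R A] [Algebra.FinitePresentation R A] in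
/-- The prime of the fibre ring over a prime. -/
theorem exists_fibre_prime (q : PrimeSpectrum A) :
    ∃ (p : PrimeSpectrum R) (Q : PrimeSpectrum (p.asIdeal.ResidueField ⊗[R] A)),
      Q.asIdeal.comap (Algebra.TensorProduct.includeRight : A →ₐ[R] p.asIdeal.ResidueField ⊗[R] A).toRingHom = q.asIdeal ∧
      FlatMor.fibreDimAt (AlgebraicGeometry.Spec.map (CommRingCat.ofHom (algebraMap R A))) q =
        FlatMor.localDim (PrimeSpectrum (p.asIdeal.ResidueField ⊗[R] A)) Q := by
  let p : PrimeSpectrum R := ⟨q.asIdeal.comap (algebraMap R A), inferInstance⟩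
  haveI : q.asIdeal.LiesOver p.asIdeal := ⟨rfl⟩
  let Q := PrimeSpectrum.primesOverOrderIsoFiber R A p.asIdeal ⟨q.asIdeal, inferInstance, ⟨rfl⟩⟩
  have hQ : Q.asIdeal.comap (Algebra.TensorProduct.includeRight :
      A →ₐ[R] p.asIdeal.ResidueField ⊗[R] A).toRingHom = q.asIdeal := by
    have : Q.asIdeal.comap Algebra.TensorProduct.includeRight = q.asIdeal := by
      rw [← PrimeSpectrum.coe_primesOverOrderIsoFiber_symm_apply p.asIdeal Q, OrderIso.symm_apply_apply]
    exact this
  exact ⟨p, Q, hQ, GrothLib.FibreDimRing.fibreDimAt_eq_localDim q p.asIdeal rfl Q hQ⟩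

/-- The dimension of a component. -/
theorem coheight_eq_ringKrullDim_quotient {B : Type u} [CommRing B] (Q : PrimeSpectrum B) :
    ((Order.coheight Q : ℕ∞) : WithBot ℕ∞) = ringKrullDim (B ⧸ Q.asIdeal) := by
  rw [ringKrullDim_quotient, Order.coheight_eq_krullDim_Ici]
  rfl

/-- The local dimension at a generic point. -/
theorem localDim_of_minimal (k : Type u) [Field k] {B : Type u} [CommRing B] [Algebra k B] [Algebra.FiniteType k B]
    (Q : PrimeSpectrum B) (hQ : Q.asIdeal ∈ minimalPrimes B) :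
    FlatMor.localDim (PrimeSpectrum B) Q = ((Order.coheight Q : ℕ∞) : WithBot ℕ∞) := by
  rw [GrothLib.LocalDimAlg.localDim_eq k Q.asIdeal, Ideal.height_eq_zero_iff.2 hQ,
    coheight_eq_ringKrullDim_quotient]
  exact zero_add _

/-- The local dimension on a space all of whose components have one dimension. -/
theorem localDim_of_pure (k : Type u) [Field k] {B : Type u} [CommRing B] [Algebra k B] [Algebra.FiniteType k B]
    {d : ℕ} (h : ∀ Q : PrimeSpectrum B, Q.asIdeal ∈ minimalPrimes B → Order.coheight Q = (d : ℕ∞))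
    (Q : PrimeSpectrum B) : FlatMor.localDim (PrimeSpectrum B) Q = (d : WithBot ℕ∞) := by
  haveI : IsNoetherianRing B := Algebra.FiniteType.isNoetherianRing k B
  refine le_antisymm (GrothLib.ShriekBridge22.localDim_le_of_minimal (k := k) Q fun Q₀ h0 _ => ?_) ?_
  · rw [← coheight_eq_ringKrullDim_quotient, h Q₀ h0]
    rfl
  · obtain ⟨P, hP, hPQ⟩ := Ideal.exists_minimalPrimes_le (bot_le : (⊥ : Ideal B) ≤ Q.asIdeal)
    haveI := hP.isPrime
    let Q₀ : PrimeSpectrum B := ⟨P, inferInstance⟩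
    have hle : FlatMor.localDim (PrimeSpectrum B) Q₀ ≤ FlatMor.localDim (PrimeSpectrum B) Q :=
      le_iInf fun U : { U : TopologicalSpace.Opens (PrimeSpectrum B) // Q ∈ U } => iInf_le_of_le
        (⟨U.1, ((PrimeSpectrum.le_iff_specializes Q₀ Q).1 hPQ).mem_open U.1.isOpen U.2⟩ :
          { U : TopologicalSpace.Opens (PrimeSpectrum B) // Q₀ ∈ U }) le_rfl
    refine le_of_eq_of_le ?_ hle
    rw [localDim_of_minimal k Q₀ hP, h Q₀ hP]
    rfl

include hψ in
/-- **Cohen–Macaulay fibres of pure dimension `d`: one degree.** -/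
theorem oneDeg_of_cm (d : ℕ)
    (hCM : ∀ p : PrimeSpectrum R, LocCoh.IsCohenMacaulayRing (p.asIdeal.ResidueField ⊗[R] A))
    (hdim : ∀ p : PrimeSpectrum R, ∀ Q : PrimeSpectrum (p.asIdeal.ResidueField ⊗[R] A),
      Q.asIdeal ∈ minimalPrimes (p.asIdeal.ResidueField ⊗[R] A) → Order.coheight Q = (d : ℕ∞)) :
    (∀ i : ℤ, i ≠ -(d : ℤ) → Subsingleton (Dual.HD A (GP ψ (Dual.inD R R)) i)) ∧
      Module.Flat R (Dual.HD R ((DRing.restrictD (algebraMap R A)).obj (GP ψ (Dual.inD R R))) (-(d : ℤ))) := by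
  have hfib : ∀ q : PrimeSpectrum A, FlatMor.fibreDimAt
      (AlgebraicGeometry.Spec.map (CommRingCat.ofHom (algebraMap R A))) q ≤ (d : WithBot ℕ∞) := fun q => by
    obtain ⟨p, Q, -, hd⟩ := exists_fibre_prime (R := R) q
    exact (hd.trans (localDim_of_pure p.asIdeal.ResidueField (hdim p) Q)).le
  have hzero : ∀ i : ℤ, i ≠ -(d : ℤ) → Subsingleton (Dual.HD A (GP ψ (Dual.inD R R)) i) := fun i hi => by
    refine (Module.support_eq_empty_iff (R := A)).1 (Set.eq_empty_iff_forall_notMem.2 fun q hq => ?_)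
    obtain ⟨p, Q, hQ, -⟩ := exists_fibre_prime (R := R) q
    obtain ⟨-, h2⟩ := GrothLib.ShriekBridge22.top_of_isCM ψ hψ p q Q hQ
      ((hCM p).isCohenMacaulayLocalRing_localization Q.asIdeal) d (localDim_of_pure p.asIdeal.ResidueField (hdim p) Q)
    have h3 := le_of_nontrivial_localized_HD ψ hψ q (hfib q) i (Module.mem_support_iff.1 hq)
    exact h2 i (by omega) hq
  refine ⟨hzero, flat_HD_of_amp ?_⟩
  obtain ⟨E, b, hb, hf, ⟨e⟩⟩ := (isRelPerfect_GP ψ hψ).1
  let F := (DRing.restrictCx (algebraMap R A)).obj E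
  have hFb : DRing.VanishesAbove F b := fun i hi => (ModuleCat.restrictScalars _).map_isZero (hb i hi)
  have hFf : DRing.TermwiseFlat F :=
    GrothLib.DR.termwiseFlat_restrict (DR.termwiseFlat_of_projective fun j => DR.projective_of_finiteFree hf j)
  let eF : DRing.toD F ≅ (DRing.restrictD (algebraMap R A)).obj (GP ψ (Dual.inD R R)) :=
    ((ModuleCat.restrictScalars.{u} (algebraMap R A)).mapDerivedCategoryFactors.app E).symm ≪≫
      (DRing.restrictD _).mapIso e
  have h0 := (DR.hasTorAmplitudeIn_iff hFb hFf (-(d : ℤ)) 0).1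
    (DR.hasTorAmplitudeIn_of_iso eF.symm (hasTorAmplitudeIn_GP ψ hψ hfib))
  refine DR.hasTorAmplitudeIn_of_iso eF ((DR.hasTorAmplitudeIn_iff hFb hFf _ _).2 fun M _ _ i hi => ?_)
  rcases hi with hi | hi
  · exact h0 M i (Or.inl hi)
  · refine DR.tExact_of_exact hFb hFf (n := -(d : ℤ) + 1) (fun j hj => ?_) i (by omega) M
    refine (KF.exactAt_restrict_iff _ E j).2 ((GrothLib.DR.exactAt_iff _ j).2 ?_)
    exact GrothLib.DR.subsingleton_HD_of_iso e.symm j (hzero j (by omega))

include hψ in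
/-- **One degree: Cohen–Macaulay fibres of pure dimension `d`.** -/
theorem cm_of_oneDeg (d : ℕ)
    (h : ∀ i : ℤ, i ≠ -(d : ℤ) → Subsingleton (Dual.HD A (GP ψ (Dual.inD R R)) i)) (p : PrimeSpectrum R) :
    LocCoh.IsCohenMacaulayRing (p.asIdeal.ResidueField ⊗[R] A) ∧
      ∀ Q : PrimeSpectrum (p.asIdeal.ResidueField ⊗[R] A),
        Q.asIdeal ∈ minimalPrimes (p.asIdeal.ResidueField ⊗[R] A) → Order.coheight Q = (d : ℕ∞) := by
  let B := p.asIdeal.ResidueField ⊗[R] A
  haveI : Algebra.FiniteType p.asIdeal.ResidueField B := inferInstance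
  haveI : IsNoetherianRing B := Algebra.FiniteType.isNoetherianRing p.asIdeal.ResidueField B
  have hsupp : ∀ (q : PrimeSpectrum A) (i : ℤ), i ≠ -(d : ℤ) →
      q ∉ Module.support A (Dual.HD A (GP ψ (Dual.inD R R)) i) := fun q i hi => by
    haveI := h i hi
    rw [Module.support_eq_empty]
    exact Set.notMem_empty q
  have hCMloc : ∀ Q : PrimeSpectrum B, LocCoh.IsCohenMacaulayLocalRing (Localization.AtPrime Q.asIdeal) := fun Q =>
    GrothLib.ShriekBridge22.isCM_of_oneDeg ψ hψ p ⟨Q.asIdeal.comap _, inferInstance⟩ Q rfl (-(d : ℤ))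
      fun q' _ i hi => hsupp q' i hi
  refine ⟨{ isCohenMacaulayLocalRing_localization := fun P _ => hCMloc ⟨P, inferInstance⟩ }, fun Q hQ => ?_⟩
  have hle : FlatMor.localDim (PrimeSpectrum B) Q ≤ (n : WithBot ℕ∞) := by
    refine (GrothLib.NoethTop.localDim_le_dim Q).trans ?_
    rw [PrimeSpectrum.topologicalKrullDim_eq_ringKrullDim]
    refine (ringKrullDim_le_of_surjective _ (RelPC.bcPres_surjective (R' := p.asIdeal.ResidueField) ψ hψ)).trans ?_
    rw [MvPolynomial.ringKrullDim_of_isNoetherianRing, ringKrullDim_eq_zero_of_field, zero_add, Nat.card_fin]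
  rw [localDim_of_minimal p.asIdeal.ResidueField Q hQ] at hle
  obtain ⟨e, he⟩ := ENat.ne_top_iff_exists.1 (ne_top_of_le_ne_top (ENat.coe_ne_top n) (WithBot.coe_le_coe.1 hle))
  obtain ⟨h1, -⟩ := GrothLib.ShriekBridge22.top_of_isCM ψ hψ p ⟨Q.asIdeal.comap _, inferInstance⟩ Q rfl (hCMloc Q) e
    (by rw [localDim_of_minimal p.asIdeal.ResidueField Q hQ, ← he]; rfl)
  rw [← he]
  by_contra hne
  exact hsupp _ (-(e : ℤ)) (fun h' => hne (by rw [show e = d by omega])) h1

end Fibre

/-- Invariance of the two conditions under the exchange of the factors. -/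
theorem cm_dim_of_ringEquiv {B C : Type u} [CommRing B] [CommRing C] (e : B ≃+* C) {d : ℕ}
    (h : LocCoh.IsCohenMacaulayRing B ∧ ∀ Q : PrimeSpectrum B, Q.asIdeal ∈ minimalPrimes B →
      Order.coheight Q = (d : ℕ∞)) :
    LocCoh.IsCohenMacaulayRing C ∧ ∀ Q : PrimeSpectrum C, Q.asIdeal ∈ minimalPrimes C →
      Order.coheight Q = (d : ℕ∞) := by
  haveI := h.1
  refine ⟨GrothLib.CMPoly.isCohenMacaulayRing_of_ringEquiv e, fun Q hQ => ?_⟩
  let o := PrimeSpectrum.comapEquiv e
  rw [← Order.coheight_orderIso o.symm Q]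
  exact h.2 _ ((PrimeSpectrum.isMin_iff).1 ((OrderIso.isMin_apply o.symm).2 ((PrimeSpectrum.isMin_iff).2 hQ)))

end GrothLib.AffRelDual22
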